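import Cfsg.Agent.G2Four.Rep
import Cfsg.Agent.Chev.All
import Cfsg.Agent.Chev.ExtraAll
import Cfsg.Agent.Chev.WeylAll
import Cfsg.Agent.Chev.SteinbergCenter
import Cfsg.Agent.PrimeGraph.PartialExtension

/-!
# The action of `G2(4)` on `GF(2)^12`
-/

set_option autoImplicit false

namespace Cfsg.Agent.G2Four

open Cfsg.Lie
open scoped Pointwise

/-- The module, written multiplicatively. -/
abbrev W : Type := Multiplicative V

/-- The automorphism given by a root element. -/
def gAut (z : Fin 12 × K) : MulAut W where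
  toFun v := Multiplicative.ofAdd (act (gen z.1 z.2) v.toAdd)
  invFun v := Multiplicative.ofAdd (act (gen z.1 z.2) v.toAdd)
  left_inv v := by
    change Multiplicative.ofAdd (act (gen z.1 z.2) (act (gen z.1 z.2) v.toAdd)) = v
    rw [← act_comp _ _ (gen_len _ _), gen_sq, act_idB]; rfl
  right_inv v := by
    change Multiplicative.ofAdd (act (gen z.1 z.2) (act (gen z.1 z.2) v.toAdd)) = v
    rw [← act_comp _ _ (gen_len _ _), gen_sq, act_idB]; rfl
  map_mul' v w := by simp [map_add]

theorem gAut_inv (z : Fin 12 × K) : (gAut z)⁻¹ = gAut z := by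
  ext v; rfl

/-- The automorphism of a word. -/
def wAut (l : List (ℕ × K)) : MulAut W :=
  (l.map fun p => if h : p.1 < 12 then gAut (⟨p.1, h⟩, p.2) else 1).prod

theorem wAut_apply : ∀ (l : List (ℕ × K)), (∀ p ∈ l, p.1 < 12) → ∀ v : W,
    wAut l v = Multiplicative.ofAdd (act (word l) v.toAdd)
  | [], _, v => by simp [wAut, word, act_idB]
  | p :: l, h, v => by
    have h1 : p.1 < 12 := h p List.mem_cons_self
    have ih := wAut_apply l (fun q hq => h q (List.mem_cons_of_mem _ hq)) v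
    rw [wAut] at ih ⊢
    rw [List.map_cons, List.prod_cons, MulAut.mul_apply, ih, dif_pos h1, word,
      act_comp _ _ (gen_len ⟨p.1, h1⟩ p.2)]
    rfl

theorem wAut_congr {l m : List (ℕ × K)} (hl : ∀ p ∈ l, p.1 < 12) (hm : ∀ p ∈ m, p.1 < 12)
    (h : word l = word m) : wAut l = wAut m :=
  MulEquiv.ext fun v => by rw [wAut_apply l hl, wAut_apply m hm, h]

theorem wAut_append (l m : List (ℕ × K)) : wAut (l ++ m) = wAut l * wAut m := by
  rw [wAut, wAut, wAut, List.map_append, List.prod_append]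

theorem commWord_lt : ∀ r s : Fin 12, ∀ p ∈ chevG2.commTerms r s, p.1 < 12 := by decide +kernel

theorem neg_lt : ∀ r : Fin 12, chevG2.neg r < 12 := by decide +kernel

universe u

section

variable {F : Type u} [Field F] (ψ : F →+* K)

/-- The image of a generator of the Steinberg group. -/
def genImage (z : Fin chevG2.nroots × F) : MulAut W := gAut (z.1, ψ z.2)

theorem lift_stWord (l : List (ℕ × F)) :
    FreeGroup.lift (genImage ψ) (chevG2.stWord l) = wAut (l.map fun p => (p.1, ψ p.2)) := by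
  simp only [ChevalleyDatum.stWord, map_list_prod, List.map_map, wAut]
  refine congrArg List.prod (List.map_congr_left fun p _ => ?_)
  simp only [Function.comp_apply, ChevalleyDatum.stX]
  by_cases h : p.1 < 12
  · rw [dif_pos (show p.1 < chevG2.nroots from h), dif_pos h, FreeGroup.lift_apply_of]; rfl
  · rw [dif_neg (show ¬ p.1 < chevG2.nroots from h), dif_neg h, map_one]

theorem lift_stX {r : ℕ} (hr : r < 12) (t : F) :
    FreeGroup.lift (genImage ψ) (chevG2.stX r t) = wAut [(r, ψ t)] := by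
  rw [ChevalleyDatum.stX, dif_pos (show r < chevG2.nroots from hr), FreeGroup.lift_apply_of, wAut]
  simp [genImage, hr]
  rfl

theorem lift_stX_inv {r : ℕ} (hr : r < 12) (t : F) :
    (FreeGroup.lift (genImage ψ) (chevG2.stX r t))⁻¹ = wAut [(r, ψ t)] := by
  rw [lift_stX ψ hr, wAut]
  simp [hr, gAut_inv]

theorem map_commWord (r s : ℕ) (t u : F) :
    (chevG2.commWord F r s t u).map (fun p => (p.1, ψ p.2)) =
      chevG2.commWord K r s (ψ t) (ψ u) := by
  simp [ChevalleyDatum.commWord, List.map_map, Function.comp_def, map_intCast]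

theorem map_hWord (r : ℕ) (t : F) :
    (chevG2.hWord r t).map (fun p => (p.1, ψ p.2)) = chevG2.hWord r (ψ t) := by
  simp [ChevalleyDatum.hWord, ChevalleyDatum.nWord, map_inv₀]

theorem lt_of_mem_hWord {r : ℕ} (hr : r < 12) (t : K) : ∀ p ∈ chevG2.hWord r t, p.1 < 12 := by
  have hn : chevG2.neg r < 12 := neg_lt ⟨r, hr⟩
  simp [ChevalleyDatum.hWord, ChevalleyDatum.nWord, hr, hn]

theorem lift_rels : ∀ g ∈ chevG2.steinbergRels F, FreeGroup.lift (genImage ψ) g = 1 := by
  rintro g ((⟨r, t₁, t₂, hr, rfl⟩ | ⟨r, s, t, u, hr, hs, h1, h2, rfl⟩) |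
    ⟨r, t₁, t₂, hr, ht₁, ht₂, rfl⟩)
  · have hr' : r < 12 := hr
    rw [map_mul, map_mul, map_inv, mul_inv_eq_one, lift_stX ψ hr', lift_stX ψ hr', lift_stX ψ hr',
      map_add, ← wAut_append]
    exact wAut_congr (by simp [hr']) (by simp [hr']) (gen_add ⟨r, hr'⟩ _ _)
  · have hr' : r < 12 := hr
    have hs' : s < 12 := hs
    simp only [map_mul, map_inv]
    rw [mul_inv_eq_one, lift_stX_inv ψ hs', lift_stX_inv ψ hr', lift_stX ψ hs', lift_stX ψ hr',
      lift_stWord, map_commWord, ← wAut_append, ← wAut_append, ← wAut_append]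
    refine wAut_congr (by simp [hr', hs']) ?_
      (gen_comm ⟨r, hr'⟩ ⟨s, hs'⟩ h1 h2 _ _)
    intro p hp
    obtain ⟨c, hc, rfl⟩ := List.mem_map.1 hp
    exact commWord_lt ⟨r, hr'⟩ ⟨s, hs'⟩ c hc
  · have hr' : r < 12 := hr
    rw [map_mul, map_mul, map_inv, mul_inv_eq_one]
    simp only [ChevalleyDatum.stH, lift_stWord, map_hWord, map_mul]
    rw [← wAut_append]
    refine wAut_congr ?_ (lt_of_mem_hWord hr' _)
      (gen_h ⟨r, hr'⟩ _ _ (by simpa using ht₁) (by simpa using ht₂))
    intro p hp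
    rcases List.mem_append.1 hp with h | h
    exacts [lt_of_mem_hWord hr' _ p h, lt_of_mem_hWord hr' _ p h]

/-- The action of the Steinberg group. -/
def stAct : chevG2.SteinbergGroup F →* MulAut W := PresentedGroup.toGroup (lift_rels ψ)

theorem stAct_word (l : List (ℕ × F)) :
    stAct ψ (PresentedGroup.mk (chevG2.steinbergRels F) (chevG2.stWord l)) =
      wAut (l.map fun p => (p.1, ψ p.2)) := by
  rw [← lift_stWord ψ l]
  rfl

end

theorem exists_steinberg_equiv (F : Type u) [Field F] :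
    Nonempty (chevG2.SteinbergGroup F ≃* ↥(chevG2.group F)) := by
  let L := Chev.stLift (Chev.facts_chevG2.{u}) (F := F)
  have hk : L.θ.ker = ⊥ := L.ker_eq_bot Chev.extra_chevG2 (Chev.stLift_hmul _)
    (Chev.torusHom_injective Chev.g2_checks Chev.facts_chevG2 Chev.g2_smith (by decide))
  exact ⟨(MonoidHom.ofInjective ((MonoidHom.ker_eq_bot_iff _).1 hk)).trans
    (MulEquiv.subgroupCongr L.range_θ)⟩

theorem card_steinberg {F : Type u} [Field F] [Fintype F] (hF : Fintype.card F = 4) :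
    Nat.card (chevG2.SteinbergGroup F) = 251596800 := by
  obtain ⟨e⟩ := exists_steinberg_equiv F
  rw [Nat.card_congr e.toEquiv]
  have h := Chev.g2_card_group F
  rw [hF, Fin.prod_univ_two] at h
  norm_num at h
  omega

theorem word_len : ∀ (l : List (ℕ × K)), (word l).length = 12
  | [] => rfl
  | p :: l => by rw [word, length_comp, word_len l]

theorem powB_len {A : BMat} : ∀ n : ℕ, (powB A n).length = 12
  | 0 => rfl
  | n + 1 => by rw [powB, length_comp, powB_len n]

theorem wAut_pow_apply {l : List (ℕ × K)} (hl : ∀ p ∈ l, p.1 < 12) :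
    ∀ (n : ℕ) (v : W), (wAut l ^ n) v = Multiplicative.ofAdd (act (powB (word l) n) v.toAdd)
  | 0, v => by simp [powB, act_idB]
  | n + 1, v => by
    rw [pow_succ', MulAut.mul_apply, wAut_pow_apply hl n v, wAut_apply l hl, powB,
      act_comp _ _ (word_len l).le]
    rfl

theorem wAut_pow_eq_one {l : List (ℕ × K)} (hl : ∀ p ∈ l, p.1 < 12) {n : ℕ}
    (h : powB (word l) n = idB) : wAut l ^ n = 1 :=
  MulEquiv.ext fun v => by rw [wAut_pow_apply hl n v, h, act_idB]; rfl

theorem wAut_pow_ne_one {l : List (ℕ × K)} (hl : ∀ p ∈ l, p.1 < 12) {n : ℕ}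
    (h : ∃ i : Fin 12, ∃ j : Fin 12,
      vec (img (powB (word l) n) (1 <<< (i : ℕ))) j ≠ vec (1 <<< (i : ℕ)) j) :
    wAut l ^ n ≠ 1 := by
  obtain ⟨i, j, hij⟩ := h
  intro h1
  refine hij (congrFun ?_ j)
  have := wAut_pow_apply hl n (Multiplicative.ofAdd (vec (1 <<< (i : ℕ))))
  rw [h1, MulAut.one_apply] at this
  rw [← act_vec _ (powB_len n).le]
  exact (Multiplicative.ofAdd.injective this).symm

theorem wAut_fpf {l : List (ℕ × K)} (hl : ∀ p ∈ l, p.1 < 12) {B : BMat} (hB12 : B.length ≤ 12)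
    (hB : comp B (addB (word l) idB) = idB) {v : W} (hv : wAut l v = v) : v = 1 := by
  rw [wAut_apply l hl] at hv
  exact eq_zero_of_fixed hB12 hB (congrArg Multiplicative.toAdd hv)

/-- An element whose image is `x` and such that all elements of prime order `r` (with `r²` not
dividing the group order) act without fixed points, as soon as `x` does. -/
theorem fpf_of_witness {S : Type*} [Group S] [Finite S] (φ : S →* MulAut W) {r : ℕ}
    [Fact r.Prime] (hr2 : ¬ r ^ 2 ∣ Nat.card S) {y : S} (hy1 : φ y ^ r = 1) (hy : φ y ≠ 1)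
    (hfpf : ∀ v : W, φ y v = v → v = 1) {g : S} (hg : orderOf g = r) {v : W} (hv : φ g v = v) :
    v = 1 := by
  have hr := (Fact.out : r.Prime)
  have hdy : r ∣ orderOf y := by
    have h1 : orderOf (φ y) = r := orderOf_eq_prime hy1 hy
    exact h1 ▸ orderOf_map_dvd φ y
  set k := orderOf y / r with hk
  have hg0 : orderOf (y ^ k) = r := orderOf_pow_orderOf_div (orderOf_pos y).ne' hdy
  have hrk : ¬ r ∣ k := by
    intro h
    refine hr2 (dvd_trans ?_ (orderOf_dvd_natCard y))
    rw [← Nat.mul_div_cancel' hdy, sq]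
    exact Nat.mul_dvd_mul_left r h
  -- the subgroups generated by elements of order `r` are Sylow subgroups
  have hsyl : ∀ a : S, orderOf a = r → ∃ P : Sylow r S, (P : Subgroup S) = Subgroup.zpowers a := by
    intro a ha
    have hp : IsPGroup r (Subgroup.zpowers a) :=
      IsPGroup.of_card (n := 1) (by rw [Nat.card_zpowers, ha, pow_one])
    obtain ⟨P, hP⟩ := hp.exists_le_sylow
    refine ⟨P, (Subgroup.eq_of_le_of_card_ge hP ?_).symm⟩
    obtain ⟨n, hn⟩ := IsPGroup.iff_card.1 P.isPGroup'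
    rw [Nat.card_zpowers, ha, hn]
    rcases Nat.lt_or_ge n 2 with h | h
    · calc r ^ n ≤ r ^ 1 := Nat.pow_le_pow_right hr.pos (by omega)
        _ = r := pow_one r
    · exact absurd ((pow_dvd_pow r h).trans (hn ▸ Subgroup.card_subgroup_dvd_card _)) hr2
  obtain ⟨P, hP⟩ := hsyl (y ^ k) hg0
  obtain ⟨Q, hQ⟩ := hsyl g hg
  obtain ⟨x, rfl⟩ := MulAction.exists_smul_eq S P Q
  have hgQ : g ∈ MulAut.conj x • (P : Subgroup S) := by
    rw [← Sylow.coe_subgroup_smul, show ((x • P : Sylow r S) : Subgroup S) =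
      Subgroup.zpowers g from hQ]
    exact Subgroup.mem_zpowers g
  rw [Subgroup.mem_pointwise_smul_iff_inv_smul_mem, hP] at hgQ
  obtain ⟨j, hj⟩ := mem_powers_iff_mem_zpowers.2 hgQ
  replace hj : (y ^ k) ^ j = x⁻¹ * g * x := hj.trans (by simp [MulAut.smul_def])
  set z := φ x⁻¹ v with hz
  have hz1 : φ ((y ^ k) ^ j) z = z := by
    rw [hj, hz, map_mul, map_mul, MulAut.mul_apply, MulAut.mul_apply,
      ← MulAut.mul_apply _ (φ x) (φ x⁻¹), ← map_mul, mul_inv_cancel, map_one, MulAut.one_apply, hv]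
  have hrj : ¬ r ∣ j := by
    intro h
    have h1 : (y ^ k) ^ j = 1 := orderOf_dvd_iff_pow_eq_one.1 (hg0.symm ▸ h)
    rw [h1] at hj
    have hg1 : g = 1 := by
      calc g = x * (x⁻¹ * g * x) * x⁻¹ := by group
        _ = 1 := by rw [← hj]; group
    rw [hg1, orderOf_one] at hg
    exact hr.ne_one hg.symm
  obtain ⟨b, hb⟩ : ∃ b : ℕ, (k * j * b) % r = 1 := by
    obtain ⟨b, hb⟩ := Nat.exists_mul_mod_eq_one_of_coprime
      ((Nat.Prime.coprime_iff_not_dvd hr).2 (fun h => (hr.dvd_mul.1 h).elim hrk hrj)).symm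
      hr.one_lt
    exact ⟨b, hb.2⟩
  have hfix : ∀ n : ℕ, (φ y ^ (k * j * n)) z = z := by
    intro n
    induction n with
    | zero => simp
    | succ n ih =>
      rw [Nat.mul_succ, pow_add, MulAut.mul_apply,
        show φ y ^ (k * j) = φ ((y ^ k) ^ j) by rw [← pow_mul, map_pow], hz1, ih]
  have hy2 : φ y ^ (k * j * b) = φ y := by
    rw [← Nat.mod_add_div (k * j * b) r, hb, pow_add, pow_mul, hy1, one_pow, mul_one, pow_one]
  have hz2 : z = 1 := hfpf z (by conv_lhs => rw [← hy2]; exact hfix b)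
  have : φ x z = v := by
    rw [hz, ← MulAut.mul_apply, ← map_mul, mul_inv_cancel, map_one, MulAut.one_apply]
  rw [← this, hz2, map_one]

end Cfsg.Agent.G2Four
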