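import Mathlib

/-!
# Linear maps of `GF(2)^12` given by the bit masks of their rows
-/

set_option autoImplicit false

namespace Cfsg.Agent.G2Four

/-- The vector space `GF(2)^12`. -/
abbrev V : Type := Fin 12 → ZMod 2

/-- The vector with the given bit mask. -/
def vec (a : ℕ) : V := fun j => if a.testBit (j : ℕ) then 1 else 0

theorem vec_xor (a b : ℕ) : vec (a ^^^ b) = vec a + vec b := by
  funext j
  simp only [vec, Nat.testBit_xor, Pi.add_apply]
  cases a.testBit (j : ℕ) <;> cases b.testBit (j : ℕ) <;> decide

theorem vec_zero : vec 0 = 0 := by funext j; simp [vec]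

/-- A linear map, given by the images of the basis vectors. -/
abbrev BMat : Type := List ℕ

/-- The image of the `i`-th basis vector. -/
def row (A : BMat) (i : ℕ) : ℕ := A.getD i 0

/-- The linear map. -/
def act (A : BMat) : V →+ V where
  toFun v := ∑ i : Fin 12, v i • vec (row A i)
  map_zero' := by simp
  map_add' v w := by simp [add_smul, Finset.sum_add_distrib]

/-- The image of a bit mask under the map with the given rows. -/
def img : BMat → ℕ → ℕ
  | [], _ => 0
  | r :: rs, a => (a % 2) * r ^^^ img rs (a / 2)

theorem img_zero : ∀ B : BMat, img B 0 = 0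
  | [] => rfl
  | r :: rs => by simp [img, img_zero rs]

theorem vec_img : ∀ (B : BMat) (a n : ℕ), B.length ≤ n →
    vec (img B a) =
      ∑ i ∈ Finset.range n, (if a.testBit i then (1 : ZMod 2) else 0) • vec (row B i)
  | [], a, n, _ => by simp [img, row, vec_zero]
  | r :: rs, a, 0, h => by simp at h
  | r :: rs, a, n + 1, h => by
    rw [img, vec_xor, Finset.sum_range_succ', vec_img rs (a / 2) n (by simpa using h),
      add_comm]
    congr 1
    · refine Finset.sum_congr rfl fun i _ => ?_
      rw [Nat.testBit_succ]
      rfl
    · rcases Nat.mod_two_eq_zero_or_one a with h2 | h2 <;>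
        simp [h2, Nat.testBit_zero, row, vec_zero]

theorem act_vec (B : BMat) (hB : B.length ≤ 12) (a : ℕ) : act B (vec a) = vec (img B a) := by
  rw [vec_img B a 12 hB, ← Fin.sum_univ_eq_sum_range]
  rfl

/-- The identity. -/
def idB : BMat := (List.range 12).map fun i => 1 <<< i

/-- Composition: `A` after `B`. -/
def comp (A B : BMat) : BMat := B.map (img A)

/-- The sum. -/
def addB (A B : BMat) : BMat := (List.range 12).map fun i => row A i ^^^ row B i

theorem row_map (f : ℕ → ℕ) (i : Fin 12) : row ((List.range 12).map f) i = f i := by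
  simp [row, List.getD, i.2]

theorem act_idB (v : V) : act idB v = v := by
  have h : ∀ i j : Fin 12, vec (row idB i) j = if i = j then (1 : ZMod 2) else 0 := by
    decide +kernel
  funext j
  simp [act, h, Finset.sum_apply]

theorem length_comp (A B : BMat) : (comp A B).length = B.length := List.length_map _

theorem row_comp (A B : BMat) (i : ℕ) : row (comp A B) i = img A (row B i) := by
  simp only [row, comp, List.getD]
  rw [List.getElem?_map]
  cases B[i]? <;> simp [img_zero]

theorem act_comp (A B : BMat) (hA : A.length ≤ 12) (v : V) : act (comp A B) v = act A (act B v) := by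
  have hs : ∀ (c : ZMod 2) (w : V), act A (c • w) = c • act A w := by
    intro c w
    obtain rfl | rfl : c = 0 ∨ c = 1 := by revert c; decide
    · simp
    · simp
  change ∑ i : Fin 12, v i • vec (row (comp A B) i) = act A (∑ i : Fin 12, v i • vec (row B i))
  rw [map_sum]
  refine Finset.sum_congr rfl fun i _ => ?_
  rw [hs, act_vec A hA, row_comp]

theorem act_addB (A B : BMat) (v : V) : act (addB A B) v = act A v + act B v := by
  change ∑ i : Fin 12, v i • vec (row (addB A B) i) =
    ∑ i : Fin 12, v i • vec (row A i) + ∑ i : Fin 12, v i • vec (row B i)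
  rw [← Finset.sum_add_distrib]
  refine Finset.sum_congr rfl fun i _ => ?_
  rw [addB, row_map, vec_xor, smul_add]

/-- A map with a left inverse has trivial kernel. -/
theorem act_eq_zero_of_inv {A B : BMat} (hB : B.length ≤ 12) (h : comp B A = idB) {v : V}
    (hv : act A v = 0) :
    v = 0 := by
  rw [← act_idB v, ← h, act_comp B A hB, hv, map_zero]

/-- A vector fixed by `A` is trivial when `A + 1` is invertible. -/
theorem eq_zero_of_fixed {A B : BMat} (hB : B.length ≤ 12) (h : comp B (addB A idB) = idB) {v : V}
    (hv : act A v = v) : v = 0 :=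
  act_eq_zero_of_inv hB h (by rw [act_addB, act_idB, hv]; funext i; exact CharTwo.add_self_eq_zero _)

end Cfsg.Agent.G2Four
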