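import Cfsg.Agent.G2Four.Action

/-!
# Arbitrarily large groups with the prime graph of `G2(4)`
-/

set_option autoImplicit false
set_option maxHeartbeats 1000000

namespace Cfsg.Agent.G2Four

open Cfsg.Lie

universe u

theorem exists_large_G2_four {F : Type u} [Field F] [Fintype F] (hF : Fintype.card F = 4) (N : ℕ) :
    ∃ (H : Type) (_ : Group H) (_ : Finite H), N < Nat.card H ∧
      ((∀ p : ℕ, p.Prime → (p ∣ Nat.card ↥(chevG2.group F) ↔ p ∣ Nat.card H)) ∧
      (∀ p q : ℕ, p.Prime → q.Prime → p ≠ q →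
        ((∃ g : ↥(chevG2.group F), orderOf g = p * q) ↔ (∃ g : H, orderOf g = p * q)))) := by
  obtain ⟨e⟩ := exists_steinberg_equiv F
  have hcard := card_steinberg hF
  have : Finite (chevG2.SteinbergGroup F) := Finite.of_equiv _ e.symm.toEquiv
  let ψ : F ≃+* K := FiniteField.ringEquivOfCardEq
    (hF.trans Cfsg.Agent.ThreeTrans.SU32.F4.card_eq.symm)
  let φ : chevG2.SteinbergGroup F →* MulAut W := stAct (ψ : F →+* K)
  have himg : ∀ l : List (ℕ × K), ∃ y, φ y = wAut l := fun l =>
    ⟨PresentedGroup.mk _ (chevG2.stWord (l.map fun p => (p.1, ψ.symm p.2))), by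
      rw [stAct_word, List.map_map]
      simp [Function.comp_def]⟩
  have hlift : ∀ (l : List (ℕ × K)) (r : ℕ), r.Prime → r ≠ 2 → (∀ p ∈ l, p.1 < 12) →
      powB (word l) (r * 2) = idB →
      (∃ i : Fin 12, ∃ j : Fin 12,
        vec (img (powB (word l) 2) (1 <<< (i : ℕ))) j ≠ vec (1 <<< (i : ℕ)) j) →
      (∃ i : Fin 12, ∃ j : Fin 12,
        vec (img (powB (word l) r) (1 <<< (i : ℕ))) j ≠ vec (1 <<< (i : ℕ)) j) →
      ∃ x : chevG2.SteinbergGroup F, orderOf x = r * 2 := by
    intro l r hr hr2 hl h h2 h3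
    obtain ⟨y, hy⟩ := himg l
    have ho : orderOf (φ y) = r * 2 := PrimeGraph.orderOf_eq_mul_prime hr Nat.prime_two hr2
      (by rw [hy]; exact wAut_pow_eq_one hl h)
      (by rw [hy]; exact wAut_pow_ne_one hl h3) (by rw [hy]; exact wAut_pow_ne_one hl h2)
    exact ⟨y ^ (orderOf y / (r * 2)),
      orderOf_pow_orderOf_div (orderOf_pos y).ne' (ho ▸ orderOf_map_dvd φ y)⟩
  have hV : IsPGroup 2 W := fun v => ⟨1, by
    rw [pow_one, pow_two]
    exact congrArg Multiplicative.ofAdd (funext fun i => CharTwo.add_self_eq_zero (v.toAdd i))⟩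
  obtain ⟨H, iG, iF, hN, h1, h2⟩ := PrimeGraph.exists_large_of_partial Nat.prime_two
    (show 2 ∣ Nat.card (chevG2.SteinbergGroup F) by rw [hcard]; norm_num) hV φ
    (fun g hg hg2 hno v hv => by
      have hd : orderOf g ∣ 2 ^ 12 * (3 ^ 3 * (5 ^ 2 * (7 * 13))) := by
        have := _root_.orderOf_dvd_natCard g
        rw [hcard] at this
        simpa using this
      have hne : ∀ q : ℕ, q.Prime → ∀ n, orderOf g ∣ q ^ n → orderOf g = q := fun q hq n h =>
        (Nat.prime_dvd_prime_iff_eq hg hq).1 (hg.dvd_of_dvd_pow h)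
      rcases (hg.dvd_mul.1 hd) with h | h
      · exact absurd (hne 2 Nat.prime_two 12 h) hg2
      rcases (hg.dvd_mul.1 h) with h | h
      · exfalso
        rw [hne 3 Nat.prime_three 3 h] at hno
        exact hno (hlift w6 3 Nat.prime_three (by decide) (by decide +kernel)
          w6_pow.1 (by decide +kernel) (by decide +kernel))
      rcases (hg.dvd_mul.1 h) with h | h
      · exfalso
        rw [hne 5 Nat.prime_five 2 h] at hno
        exact hno (hlift w10 5 Nat.prime_five (by decide) (by decide +kernel)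
          w10_pow.1 (by decide +kernel) (by decide +kernel))
      rcases (hg.dvd_mul.1 h) with h | h
      · have := Fact.mk (show Nat.Prime 7 by norm_num)
        obtain ⟨y, hy⟩ := himg w7
        refine fpf_of_witness φ (r := 7) (by rw [hcard]; norm_num) (y := y) ?_ ?_ ?_
          (hne 7 (by norm_num) 1 (by simpa using h)) hv
        · rw [hy]; exact wAut_pow_eq_one (by decide +kernel) w7_pow
        · rw [hy, ← pow_one (wAut w7)]
          exact wAut_pow_ne_one (by decide +kernel) (by decide +kernel)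
        · rw [hy]
          exact fun v hv => wAut_fpf (by decide +kernel) (by decide +kernel) w7_fpf hv
      · have := Fact.mk (show Nat.Prime 13 by norm_num)
        obtain ⟨y, hy⟩ := himg w13
        refine fpf_of_witness φ (r := 13) (by rw [hcard]; norm_num) (y := y) ?_ ?_ ?_
          (hne 13 (by norm_num) 1 (by simpa using h)) hv
        · rw [hy]; exact wAut_pow_eq_one (by decide +kernel) w13_pow
        · rw [hy, ← pow_one (wAut w13)]
          exact wAut_pow_ne_one (by decide +kernel) (by decide +kernel)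
        · rw [hy]
          exact fun v hv => wAut_fpf (by decide +kernel) (by decide +kernel) w13_fpf hv) N
  refine ⟨H, iG, Finite.of_fintype H, by rw [Nat.card_eq_fintype_card]; exact hN, ?_, ?_⟩
  · intro p hp
    rw [← Nat.card_congr e.toEquiv]
    exact h1 p hp
  · intro p q hp hq hpq
    rw [← h2 p q hp hq hpq]
    exact ⟨fun ⟨g, hg⟩ => ⟨e.symm g, by rw [MulEquiv.orderOf_eq, hg]⟩,
      fun ⟨g, hg⟩ => ⟨e g, by rw [MulEquiv.orderOf_eq, hg]⟩⟩

end Cfsg.Agent.G2Four
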