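import Cfsg.Agent.G2Four.BitMat
import Cfsg.Agent.ThreeTrans.SU32
import Cfsg.Prelude.Def_ChevG2
import Cfsg.Prelude.Def_ChevStructure

/-!
# The six-dimensional representation of `G2(4)` in characteristic two, as bit matrices
-/

set_option autoImplicit false
set_option maxRecDepth 100000
set_option maxHeartbeats 4000000

namespace Cfsg.Agent.G2Four

open Cfsg.Lie

/-- The field with four elements. -/
abbrev K : Type := Cfsg.Agent.ThreeTrans.SU32.F4

/-- The bit matrices of the root elements (on the six short roots, two bits each). -/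
def genTab : List (List BMat) :=
  [[[1, 2, 4, 8, 16, 32, 64, 128, 256, 512, 1024, 2048],
    [1, 2, 4, 8, 16, 32, 64, 128, 257, 514, 1028, 2056],
    [1, 2, 4, 8, 16, 32, 64, 128, 258, 515, 1032, 2060],
    [1, 2, 4, 8, 16, 32, 64, 128, 259, 513, 1036, 2052]],
   [[1, 2, 4, 8, 16, 32, 64, 128, 256, 512, 1024, 2048],
    [1, 2, 4, 8, 16, 32, 65, 130, 256, 512, 1040, 2080],
    [1, 2, 4, 8, 16, 32, 66, 131, 256, 512, 1056, 2096],
    [1, 2, 4, 8, 16, 32, 67, 129, 256, 512, 1072, 2064]],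
   [[1, 2, 4, 8, 16, 32, 64, 128, 256, 512, 1024, 2048],
    [1, 2, 4, 8, 16, 32, 68, 136, 272, 544, 1025, 2050],
    [1, 2, 4, 8, 16, 32, 72, 140, 288, 560, 1027, 2049],
    [1, 2, 4, 8, 16, 32, 76, 132, 304, 528, 1026, 2051]],
   [[1, 2, 4, 8, 16, 32, 64, 128, 256, 512, 1024, 2048],
    [1, 2, 4, 8, 17, 34, 64, 128, 260, 520, 1088, 2176],
    [1, 2, 4, 8, 18, 35, 64, 128, 268, 516, 1152, 2240],
    [1, 2, 4, 8, 19, 33, 64, 128, 264, 524, 1216, 2112]],
   [[1, 2, 4, 8, 16, 32, 64, 128, 256, 512, 1024, 2048],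
    [1, 2, 5, 10, 16, 32, 80, 160, 256, 512, 1280, 2560],
    [1, 2, 6, 11, 16, 32, 112, 144, 256, 512, 1536, 2816],
    [1, 2, 7, 9, 16, 32, 96, 176, 256, 512, 1792, 2304]],
   [[1, 2, 4, 8, 16, 32, 64, 128, 256, 512, 1024, 2048],
    [1, 2, 4, 8, 20, 40, 64, 128, 320, 640, 1024, 2048],
    [1, 2, 4, 8, 24, 44, 64, 128, 384, 704, 1024, 2048],
    [1, 2, 4, 8, 28, 36, 64, 128, 448, 576, 1024, 2048]],
   [[1, 2, 4, 8, 16, 32, 64, 128, 256, 512, 1024, 2048],
    [1, 2, 20, 40, 16, 32, 320, 640, 256, 512, 1024, 2048],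
    [1, 2, 36, 56, 16, 32, 576, 896, 256, 512, 1024, 2048],
    [1, 2, 52, 24, 16, 32, 832, 384, 256, 512, 1024, 2048]],
   [[1, 2, 4, 8, 16, 32, 64, 128, 256, 512, 1024, 2048],
    [5, 10, 4, 8, 80, 160, 64, 128, 1280, 2560, 1024, 2048],
    [9, 14, 4, 8, 208, 96, 64, 128, 2304, 3584, 1024, 2048],
    [13, 6, 4, 8, 144, 224, 64, 128, 3328, 1536, 1024, 2048]],
   [[1, 2, 4, 8, 16, 32, 64, 128, 256, 512, 1024, 2048],
    [17, 34, 260, 520, 16, 32, 1088, 2176, 256, 512, 1024, 2048],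
    [33, 50, 772, 264, 16, 32, 2112, 3200, 256, 512, 1024, 2048],
    [49, 18, 516, 776, 16, 32, 3136, 1152, 256, 512, 1024, 2048]],
   [[1, 2, 4, 8, 16, 32, 64, 128, 256, 512, 1024, 2048],
    [1025, 2050, 68, 136, 272, 544, 64, 128, 256, 512, 1024, 2048],
    [3073, 1026, 132, 200, 528, 800, 64, 128, 256, 512, 1024, 2048],
    [2049, 3074, 196, 72, 784, 288, 64, 128, 256, 512, 1024, 2048]],
   [[1, 2, 4, 8, 16, 32, 64, 128, 256, 512, 1024, 2048],
    [65, 130, 4, 8, 1040, 2080, 64, 128, 256, 512, 1024, 2048],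
    [129, 194, 4, 8, 2064, 3104, 64, 128, 256, 512, 1024, 2048],
    [193, 66, 4, 8, 3088, 1056, 64, 128, 256, 512, 1024, 2048]],
   [[1, 2, 4, 8, 16, 32, 64, 128, 256, 512, 1024, 2048],
    [257, 514, 1028, 2056, 16, 32, 64, 128, 256, 512, 1024, 2048],
    [513, 770, 2052, 3080, 16, 32, 64, 128, 256, 512, 1024, 2048],
    [769, 258, 3076, 1032, 16, 32, 64, 128, 256, 512, 1024, 2048]]]


/-- The two bits of a field element. -/
def enc : K → ℕ
  | .o => 0
  | .e => 1
  | .w => 2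
  | .w' => 3

/-- The bit matrix of the root element `x_r(t)`. -/
def gen (r : ℕ) (t : K) : BMat := (genTab.getD r []).getD (enc t) idB

/-- The bit matrix of a word. -/
def word : List (ℕ × K) → BMat
  | [] => idB
  | p :: l => comp (gen p.1 p.2) (word l)

theorem gen_len : ∀ r : Fin 12, ∀ t : K, (gen r t).length ≤ 12 := by decide +kernel

theorem gen_sq : ∀ r : Fin 12, ∀ t : K, comp (gen r t) (gen r t) = idB := by decide +kernel

theorem gen_add : ∀ r : Fin 12, ∀ a b : K,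
    word [((r : ℕ), a), ((r : ℕ), b)] = word [((r : ℕ), a + b)] := by decide +kernel

theorem gen_comm : ∀ r s : Fin 12, (s : ℕ) ≠ r → (s : ℕ) ≠ chevG2.neg r → ∀ t u : K,
    word [((s : ℕ), u), ((r : ℕ), t), ((s : ℕ), u), ((r : ℕ), t)] =
      word (chevG2.commWord K r s t u) := by decide +kernel

theorem gen_h : ∀ r : Fin 12, ∀ a b : K, a ≠ 0 → b ≠ 0 →
    word (chevG2.hWord (r : ℕ) a ++ chevG2.hWord (r : ℕ) b) = word (chevG2.hWord (r : ℕ) (a * b)) := by
  decide +kernel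

/-- A word of order seven. -/
def w7 : List (ℕ × K) := [(6, .e), (7, .e), (5, .e), (4, .e)]

/-- A word of order thirteen. -/
def w13 : List (ℕ × K) := [(6, .e), (7, .e), (5, .w), (4, .w')]

/-- A word of order six. -/
def w6 : List (ℕ × K) := [(6, .e), (7, .e), (5, .e)]

/-- A word of order ten. -/
def w10 : List (ℕ × K) := [(6, .e), (7, .e), (5, .w)]

/-- The powers of a bit matrix. -/
def powB (A : BMat) : ℕ → BMat
  | 0 => idB
  | n + 1 => comp A (powB A n)

theorem w7_pow : powB (word w7) 7 = idB := by decide +kernel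
theorem w13_pow : powB (word w13) 13 = idB := by decide +kernel
theorem w6_pow : powB (word w6) 6 = idB ∧ powB (word w6) 3 ≠ idB ∧ powB (word w6) 2 ≠ idB := by
  decide +kernel
theorem w10_pow : powB (word w10) 10 = idB ∧ powB (word w10) 5 ≠ idB ∧
    powB (word w10) 2 ≠ idB := by decide +kernel

theorem w7_fpf : comp [1365, 2730, 1361, 2722, 1360, 2720, 1297, 2594, 1280, 2560, 273, 546]
    (addB (word w7) idB) = idB := by decide +kernel

theorem w13_fpf : comp [2409, 3774, 2001, 2402, 2000, 2400, 2322, 3619, 2304, 3584, 291, 561]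
    (addB (word w13) idB) = idB := by decide +kernel

end Cfsg.Agent.G2Four
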